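import Mathlib
import Cfsg.Agent.GroupStructure3.McLStab.Main
import Cfsg.Agent.GroupStructure3.McLOut.Main

/-!
The stabiliser is normal in the automorphism group of the graph of the lines, the traces of the far
vertices determine them, and the McLaughlin group has index two in the automorphism group of its graph.
-/

set_option autoImplicit false
set_option maxRecDepth 100000
set_option Elab.async false

namespace Cfsg.Agent.Lib.McLUnique

open Cfsg Cfsg.Agent.LeechAut
open Cfsg.Agent.GroupStructure3
open Cfsg.Agent.GroupStructure3.McLStab (y0 H0 nb act)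

/-- A simple subgroup of small index and large order is normal. -/
theorem normal_of_small_index {A : Type*} [Group A] [Finite A] (S : Subgroup A) [IsSimpleGroup S]
    (hi : S.index ≤ 8) (hc : Nat.factorial 8 < Nat.card S) : S.Normal := by
  rcases IsSimpleGroup.eq_bot_or_eq_top_of_normal (S.normalCore.subgroupOf S)
    (Subgroup.normal_subgroupOf) with h | h
  · exfalso
    rw [Subgroup.subgroupOf_eq_bot, disjoint_iff, inf_eq_left.2 S.normalCore_le,
      Subgroup.normalCore_eq_ker, MonoidHom.ker_eq_bot_iff] at h
    have h1 := Nat.card_le_card_of_injective _ h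
    rw [Nat.card_perm, ← Subgroup.index_eq_card] at h1
    have h2 := Nat.factorial_le hi
    have h3 := Subgroup.card_le_card_group S
    omega
  · rw [Subgroup.subgroupOf_eq_top] at h
    rw [le_antisymm h S.normalCore_le]
    exact Subgroup.normalCore_normal S

theorem isSimple_H0 {F : Type} [Field F] [Fintype F] (hF : Fintype.card F = 9) : IsSimpleGroup H0 := by
  obtain ⟨E⟩ := McLStab.nonempty_equiv hF
  have hs : IsSimpleGroup (Cfsg.PSU 4 F 3) :=
    Cfsg.Agent.Classical.Unitary.isSimpleGroup_PSU (show Fintype.card F = 3 ^ 2 from hF) (by norm_num) (by norm_num)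
  exact E.isSimpleGroup_congr.2 hs

/-- Conjugates of the action of the stabiliser under automorphisms of the lines lie in it. -/
theorem conj_act [IsSimpleGroup H0] {σ : Equiv.Perm (Fin 112)} (hσ : σ ∈ McLStab.Au) (g : H0) :
    ∃ h : H0, act h = σ * act g * σ⁻¹ := by
  set a := act.codRestrict McLStab.Au McLStab.act_mem with ha
  have hinj : Function.Injective a := fun x y e => McLStab.act_injective (congrArg Subtype.val e)
  have hcard : Nat.card a.range = 3265920 :=
    (Nat.card_congr (MonoidHom.ofInjective hinj).toEquiv).symm.trans McLStab.card_H0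
  haveI : IsSimpleGroup a.range := (MonoidHom.ofInjective hinj).isSimpleGroup_congr.1 inferInstance
  have hn : a.range.Normal := by
    refine normal_of_small_index _ ?_ (by rw [hcard]; norm_num [Nat.factorial])
    have h1 := a.range.card_mul_index
    have h2 := McLStab.card_Au_le
    rw [hcard] at h1
    omega
  obtain ⟨h, hh⟩ := hn.conj_mem (a g) ⟨g, rfl⟩ ⟨σ, hσ⟩
  exact ⟨h, congrArg Subtype.val hh⟩

/-- A far vertex is determined by its trace on the neighbours. -/
theorem eq_of_trace {i j : Fin 275} (hi0 : i ≠ 0) (hi : McLOut.adjB 0 i = false) (hj0 : j ≠ 0)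
    (hj : McLOut.adjB 0 j = false)
    (h : ∀ l : Fin 112, McLOut.adjB i (nb l) = McLOut.adjB j (nb l)) : i = j := by
  have hmem : ∀ v : Fin 275, v ≠ 0 → McLOut.adjB 0 v = false →
      (v : ℕ) ∈ (List.range 275).filter fun i => i != 0 && !(McLOut.adjM 0).testBit i := fun v h0 ha => by
    rw [List.mem_filter, List.mem_range, Bool.and_eq_true, bne_iff_ne, Bool.not_eq_true']
    exact ⟨v.2, fun e => h0 (Fin.ext e), ha⟩
  refine Fin.ext (List.inj_on_of_nodup_map McLStab.sig_inj (hmem _ hi0 hi) (hmem _ hj0 hj) ?_)
  apply Nat.eq_of_testBit_eq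
  intro k
  rw [Nat.testBit_and, Nat.testBit_and]
  cases hb : (McLOut.adjM 0).testBit k with
  | false => rw [Bool.and_false, Bool.and_false]
  | true =>
    rw [Bool.and_true, Bool.and_true]
    have hk : k < 275 := by
      by_contra hk
      rw [Nat.testBit_lt_two_pow (lt_of_lt_of_le (McLOut.adjM_lt (0 : Fin 275))
        (Nat.pow_le_pow_right (by norm_num) (not_lt.1 hk)) : McLOut.adjM 0 < 2 ^ k)] at hb
      exact absurd hb (by simp)
    obtain ⟨l, hl⟩ := (McLStab.nb_iff ⟨k, hk⟩).1 hb
    have := h l
    rw [hl] at this
    exact this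

theorem trace_check : ((List.range 275).all fun i => i == 0 || (McLOut.adjM 0).testBit i ||
    (List.range 275).all fun j => decide (j ≤ i) || (McLOut.adjM 0).testBit j || (McLOut.adjM i).testBit j ||
      decide (30 < McLOut.cnt 35 (McLOut.adjM i &&& (McLOut.adjM j &&& McLOut.adjM 0)))) = true := by
  decide +kernel

theorem adj_symm_model : ((List.range 275).all fun i => (List.range 275).all fun j =>
    (McLOut.adjM i).testBit j == (McLOut.adjM j).testBit i) = true := by decide +kernel

theorem adjB_comm (i j : Fin 275) : McLOut.adjB i j = McLOut.adjB j i := by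
  have h := adj_symm_model
  simp only [List.all_eq_true, List.mem_range, beq_iff_eq] at h
  exact h i i.2 j j.2

/-- Two far vertices that are not adjacent have more than thirty common neighbours next to the first
vertex. -/
theorem far_common {i j : Fin 275} (hij : i ≠ j) (hi0 : i ≠ 0) (hi : McLOut.adjB 0 i = false)
    (hj0 : j ≠ 0) (hj : McLOut.adjB 0 j = false) (h : McLOut.adjB i j = false) :
    30 < (Finset.univ.filter fun l : Fin 112 => McLOut.adjB i (nb l) = true ∧
      McLOut.adjB j (nb l) = true).card := by
  wlog hlt : i < j generalizing i j with H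
  · have := H (Ne.symm hij) hj0 hj hi0 hi (by rw [adjB_comm]; exact h) (lt_of_le_of_ne (not_lt.1 hlt) hij.symm)
    simpa only [and_comm] using this
  have hc := trace_check
  simp only [List.all_eq_true, List.mem_range, Bool.or_eq_true, decide_eq_true_eq, beq_iff_eq] at hc
  rcases hc i i.2 with (e | e) | e
  · exact absurd (Fin.ext e) hi0
  · rw [show (McLOut.adjM 0).testBit i = McLOut.adjB 0 i from rfl, hi] at e
    exact absurd e (by simp)
  rcases e j j.2 with ((e | e) | e) | e
  · exact absurd e (not_le.2 hlt)
  · rw [show (McLOut.adjM 0).testBit j = McLOut.adjB 0 j from rfl, hj] at e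
    exact absurd e (by simp)
  · rw [show (McLOut.adjM i).testBit j = McLOut.adjB i j from rfl, h] at e
    exact absurd e (by simp)
  rw [McLOut.cnt_fin] at e
  refine lt_of_lt_of_le e ?_
  rw [← Finset.card_image_of_injective _ (fun a b e => McLStab.nb_inj a b e : Function.Injective nb)]
  rw [show (∑ v : Fin 275, (McLOut.adjB i v && (McLOut.adjM j &&& McLOut.adjM 0).testBit v).toNat) =
      (Finset.univ.filter fun v : Fin 275 =>
        (McLOut.adjB i v && (McLOut.adjM j &&& McLOut.adjM 0).testBit v) = true).card by
    rw [Finset.card_filter]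
    refine Finset.sum_congr rfl fun v _ => ?_
    cases (McLOut.adjB i v && (McLOut.adjM j &&& McLOut.adjM 0).testBit v) <;> rfl]
  refine Finset.card_le_card fun v hv => ?_
  simp only [Finset.mem_filter, Finset.mem_univ, true_and, Bool.and_eq_true, Nat.testBit_and] at hv
  obtain ⟨l, rfl⟩ := (McLStab.nb_iff v).1 hv.2.2
  exact Finset.mem_image.2 ⟨l, by simp only [Finset.mem_filter, Finset.mem_univ, true_and]; exact ⟨hv.1, hv.2.1⟩, rfl⟩

theorem card_row (i : Fin 275) : {j | McLOut.adjB i j = true}.ncard = 112 := by
  obtain ⟨y, rfl⟩ := McLOut.num.surjective i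
  rw [← McLOut.card_adj y, ← Set.ncard_image_of_injective _ McLOut.num.injective]
  refine congrArg Set.ncard (Set.ext fun j => ?_)
  obtain ⟨w, rfl⟩ := McLOut.num.surjective j
  simp [McLOut.adjB_num, McLOut.num.injective.eq_iff]

/-- A group of automorphisms of the graph of the right order, without subgroups of index two, is the
McLaughlin group. -/
theorem iso_of_embedding {G : Type*} [Group G] [Finite G] (Φ : G →* Equiv.Perm (Fin 275))
    (hinj : Function.Injective Φ) (hmem : ∀ g, Φ g ∈ McLOut.Au) (hcard : Nat.card G = 898128000)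
    (h2 : ∀ N : Subgroup G, N.index ≠ 2) : Nonempty (G ≃* Spor.McL) := by
  set t := McLOut.toPerm.codRestrict McLOut.Au McLOut.toPerm_mem with ht
  have htinj : Function.Injective t := fun x y e => McLOut.toPerm_injective (congrArg Subtype.val e)
  have htcard : Nat.card t.range = 898128000 :=
    (Nat.card_congr (MonoidHom.ofInjective htinj).toEquiv).symm.trans McL.card_G
  have hidx : t.range.index = 2 := by
    have h := t.range.card_mul_index
    rw [htcard, McLOut.card_Au] at h
    omega
  set φ := Φ.codRestrict McLOut.Au hmem with hφ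
  have hφinj : Function.Injective φ := fun x y e => hinj (congrArg Subtype.val e)
  have hle : φ.range ≤ t.range := by
    by_contra hn
    haveI := Subgroup.normal_of_index_eq_two hidx
    refine h2 (t.range.comap φ) ?_
    have hdvd : (t.range.comap φ).index ∣ 2 := by
      rw [Subgroup.index_comap, ← hidx]
      exact Subgroup.relIndex_dvd_index_of_normal _ _
    refine ((Nat.dvd_prime Nat.prime_two).1 hdvd).resolve_left fun h1 => hn ?_
    rw [Subgroup.index_eq_one] at h1
    rintro _ ⟨g, rfl⟩
    exact (h1.symm ▸ Subgroup.mem_top g : g ∈ t.range.comap φ)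
  have heq : φ.range = t.range := Subgroup.eq_of_le_of_card_ge hle (by
    rw [htcard, ← Nat.card_congr (MonoidHom.ofInjective hφinj).toEquiv, hcard])
  obtain ⟨E⟩ := McLOut.nonempty_equiv
  exact ⟨((MonoidHom.ofInjective hφinj).trans ((MulEquiv.subgroupCongr heq).trans
    (MonoidHom.ofInjective htinj).symm)).trans E.symm⟩

end Cfsg.Agent.Lib.McLUnique
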