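import Mathlib
import Cfsg.Agent.GroupStructure3.McLStab.Main

/-!
The stabiliser of a vertex in the McLaughlin group acting on its 112 neighbours and on the 162 other
vertices: transitivity, the subgroups of index 112, and the invariant sets of thirty neighbours.
-/

set_option autoImplicit false
set_option maxRecDepth 10000

namespace Cfsg.Agent.Lib.McLUnique

open Cfsg Cfsg.Agent.LeechAut
open Cfsg.Agent.GroupStructure3
open Cfsg.Agent.GroupStructure3.McLOut (A Adj num toPerm card_stab card_inf card_adj card_common adj_smul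
  adj_symm adj_ne adjB_num)
open Cfsg.Agent.GroupStructure3.McLStab (y0 H0 nb act)

local notation "GG" => McL.G

theorem orbit_card (S : Subgroup GG) (z : A) :
    (MulAction.orbit S z).ncard * Nat.card ↥(S ⊓ MulAction.stabilizer GG z) = Nat.card S := by
  have h := Subgroup.index_mul_card (MulAction.stabilizer S z)
  rw [MulAction.index_stabilizer] at h
  rw [← h]
  congr 1
  exact Nat.card_congr ⟨fun g => ⟨⟨g.1, g.2.1⟩, g.2.2⟩, fun g => ⟨g.1.1, g.1.2, g.2⟩,
    fun _ => rfl, fun _ => rfl⟩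

theorem orbit_pos (S : Subgroup GG) (z : A) : 0 < (MulAction.orbit S z).ncard :=
  (Set.ncard_pos (Set.toFinite _)).2 ⟨z, MulAction.mem_orbit_self z⟩

theorem exists_729 (S : Subgroup GG) (h : 729 ∣ Nat.card S) :
    ∃ P : Subgroup GG, P ≤ S ∧ Nat.card P = 729 := by
  haveI : Fact (Nat.Prime 3) := ⟨Nat.prime_three⟩
  obtain ⟨Q, hQ⟩ := Sylow.exists_subgroup_card_pow_prime 3 (G := S) (n := 6) (by simpa using h)
  exact ⟨Q.map S.subtype, Subgroup.map_subtype_le Q, by
    rw [Subgroup.card_map_of_injective S.subtype_injective, hQ]; norm_num⟩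

/-- No element of order five fixes a triangle. -/
theorem not_five {y z w : A} (h1 : Adj y z) (h2 : Adj y w) (h3 : Adj z w) {x : GG} (hx : orderOf x = 5)
    (e1 : x • y = y) (e2 : x • z = z) : x • w ≠ w := by
  intro e3
  obtain ⟨σ, hσ, hy, hz, hw⟩ := McLOut.exists_to_base McLOut.card_Au ((adjB_num y z).2 h1)
    ((adjB_num y w).2 h2) ((adjB_num z w).2 h3)
  have hfix : ∀ u : A, x • u = u → (σ * toPerm x * σ⁻¹) (σ (num u)) = σ (num u) := fun u hu => by
    rw [Equiv.Perm.mul_apply, Equiv.Perm.mul_apply, Equiv.Perm.coe_inv, Equiv.symm_apply_apply,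
      McLOut.toPerm_num, hu]
  have hmem : σ * toPerm x * σ⁻¹ ∈ McLOut.K 3 := by
    refine ⟨mul_mem (mul_mem hσ (McLOut.toPerm_mem x)) (inv_mem hσ), fun j hj h => ?_⟩
    have e : (⟨McLOut.base j, h⟩ : Fin 275) = McLOut.bp j := Fin.ext (Nat.mod_eq_of_lt h).symm
    rw [e]
    interval_cases j
    · rw [← hy]; exact hfix y e1
    · rw [← hz]; exact hfix z e2
    · rw [← hw]; exact hfix w e3
  have hd := orderOf_dvd_natCard (⟨_, hmem⟩ : McLOut.K 3)
  rw [McLOut.card_K_three McLOut.card_Au, ← Subgroup.orderOf_coe] at hd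
  have ho : orderOf (σ * toPerm x * σ⁻¹) = 5 := by
    rw [← hx, show σ * toPerm x * σ⁻¹ = MulAut.conj σ (toPerm x) from rfl, MulEquiv.orderOf_eq,
      orderOf_injective toPerm McLOut.toPerm_injective]
  simp only [ho] at hd
  norm_num at hd

theorem card_far_nbrs {y u : A} (h : Adj y u) :
    {w | Adj y w ∧ w ≠ u ∧ ¬ Adj u w}.ncard = 81 := by
  have h1 : {w | Adj y w ∧ w ≠ u ∧ ¬ Adj u w} = {w | Adj y w} \ insert u {w | Adj y w ∧ Adj u w} := by
    ext w
    simp only [Set.mem_setOf_eq, Set.mem_sdiff, Set.mem_insert_iff]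
    tauto
  rw [h1, Set.ncard_sdiff ?_ (Set.toFinite _), card_adj, Set.ncard_insert_of_notMem ?_ (Set.toFinite _),
    card_common h]
  · exact fun hu => adj_ne hu.2 rfl
  · rintro w (rfl | hw)
    exacts [h, hw.1]

/-- The neighbours far from a neighbour form one orbit of a subgroup of order 729. -/
theorem far_orbit {y u w : A} (h : Adj y u) {P : Subgroup GG} (hP : Nat.card P = 729)
    (hy : ∀ p ∈ P, p • y = y) (hu : ∀ p ∈ P, p • u = u) (hw : Adj y w) (hwu : w ≠ u) (hn : ¬ Adj u w) :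
    MulAction.orbit P w = {v | Adj y v ∧ v ≠ u ∧ ¬ Adj u v} := by
  refine Set.eq_of_subset_of_ncard_le ?_ ?_ (Set.toFinite _)
  · rintro _ ⟨p, rfl⟩
    refine ⟨?_, fun e => hwu (MulAction.injective (p : GG) (e.trans (hu p p.2).symm)), ?_⟩
    · have := (adj_smul (p : GG) y w).2 hw
      rwa [hy p p.2] at this
    · intro e
      refine hn ((adj_smul (p : GG) u w).1 ?_)
      rwa [hu p p.2]
  · rw [card_far_nbrs h]
    exact Nat.le_of_dvd (orbit_pos P w) (McLOut.orbit_far hP hu hwu hn)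

theorem card_pair {u : A} (h : Adj y0 u) :
    Nat.card ↥(MulAction.stabilizer GG y0 ⊓ MulAction.stabilizer GG u) = 29160 :=
  ((card_inf (adj_ne h)).resolve_right fun h' => h'.1 h).2

theorem exists_729_pair {u : A} (h : Adj y0 u) : ∃ P : Subgroup GG,
    P ≤ MulAction.stabilizer GG y0 ⊓ MulAction.stabilizer GG u ∧ Nat.card P = 729 :=
  exists_729 _ (by rw [card_pair h]; norm_num)

/-- The stabiliser of a neighbour is transitive on the neighbours far from it. -/
theorem pair_trans {u v w : A} (h : Adj y0 u) (hv : Adj y0 v) (hvu : v ≠ u) (hvn : ¬ Adj u v)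
    (hw : Adj y0 w) (hwu : w ≠ u) (hwn : ¬ Adj u w) :
    ∃ g : GG, g • y0 = y0 ∧ g • u = u ∧ g • v = w := by
  obtain ⟨P, hPle, hP⟩ := exists_729_pair h
  have hmem : w ∈ MulAction.orbit P v := by
    rw [far_orbit h hP (fun p hp => (hPle hp).1) (fun p hp => (hPle hp).2) hv hvu hvn]
    exact ⟨hw, hwu, hwn⟩
  obtain ⟨g, hg⟩ := hmem
  exact ⟨g, (hPle g.2).1, (hPle g.2).2, hg⟩

/-- An invariant set of thirty neighbours is the set of common neighbours. -/
theorem invariant_thirty {u : A} (h : Adj y0 u) {O : Set A} (hO : ∀ v ∈ O, Adj y0 v ∧ v ≠ u)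
    (hinv : ∀ g : GG, g • y0 = y0 → g • u = u → ∀ v ∈ O, g • v ∈ O) (hcard : O.ncard = 30) :
    O = {w | Adj y0 w ∧ Adj u w} := by
  obtain ⟨P, hPle, hP⟩ := exists_729_pair h
  refine Set.eq_of_subset_of_ncard_le (fun v hv => ⟨(hO v hv).1, ?_⟩) (by rw [hcard, card_common h])
    (Set.toFinite _)
  by_contra hn
  have he := far_orbit h hP (fun p hp => (hPle hp).1) (fun p hp => (hPle hp).2) (hO v hv).1 (hO v hv).2 hn
  have hsub : MulAction.orbit P v ⊆ O := by
    rintro _ ⟨p, rfl⟩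
    exact hinv p (hPle p.2).1 (hPle p.2).2 v hv
  have := Set.ncard_le_ncard hsub (Set.toFinite _)
  rw [he, card_far_nbrs h, hcard] at this
  omega

/-- The stabiliser is transitive on the neighbours. -/
theorem trans_nbr {u v : A} (hu : Adj y0 u) (hv : Adj y0 v) : ∃ g : GG, g • y0 = y0 ∧ g • u = v := by
  have hsub : MulAction.orbit H0 u ⊆ {w | Adj y0 w} := by
    rintro _ ⟨g, rfl⟩
    have h := (adj_smul (g : GG) y0 u).2 hu
    rwa [show (g : GG) • y0 = y0 from g.2] at h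
  have h := orbit_card H0 u
  rw [McLStab.card_H0, show Nat.card ↥(H0 ⊓ MulAction.stabilizer GG u) = 29160 from card_pair hu] at h
  have he := Set.eq_of_subset_of_ncard_le hsub (by rw [card_adj]; omega) (Set.toFinite _)
  obtain ⟨g, hg⟩ := (he.symm ▸ hv : v ∈ MulAction.orbit H0 u)
  exact ⟨g, g.2, hg⟩

theorem card_far : {w : A | w ≠ y0 ∧ ¬ Adj y0 w}.ncard = 162 := by
  rw [show {w : A | w ≠ y0 ∧ ¬ Adj y0 w} = (insert y0 {w | Adj y0 w})ᶜ from Set.ext fun w => by simp,
    Set.ncard_compl _ (Set.toFinite _), Set.ncard_insert_of_notMem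
      (show y0 ∉ {w | Adj y0 w} from fun h => adj_ne h rfl) (Set.toFinite _),
    card_adj, McLOut.card_A]

/-- The stabiliser is transitive on the other vertices. -/
theorem trans_far {u v : A} (hu0 : u ≠ y0) (hu : ¬ Adj y0 u) (hv0 : v ≠ y0) (hv : ¬ Adj y0 v) :
    ∃ g : GG, g • y0 = y0 ∧ g • u = v := by
  have hsub : MulAction.orbit H0 u ⊆ {w | w ≠ y0 ∧ ¬ Adj y0 w} := by
    rintro _ ⟨g, rfl⟩
    have hg : (g : GG) • y0 = y0 := g.2
    refine ⟨fun e => hu0 (MulAction.injective (g : GG) (e.trans hg.symm)), fun e => hu ?_⟩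
    refine (adj_smul (g : GG) y0 u).1 ?_
    rwa [hg]
  have h := orbit_card H0 u
  rw [McLStab.card_H0, show Nat.card ↥(H0 ⊓ MulAction.stabilizer GG u) = 20160 from
    ((card_inf hu0.symm).resolve_left fun h' => hu h'.1).2] at h
  have he := Set.eq_of_subset_of_ncard_le hsub (by rw [card_far]; omega) (Set.toFinite _)
  obtain ⟨g, hg⟩ := (he.symm ▸ ⟨hv0, hv⟩ : v ∈ MulAction.orbit H0 u)
  exact ⟨g, g.2, hg⟩

/-- A subgroup of index 112 of the stabiliser fixes a neighbour. -/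
theorem fixed_nbr {H : Subgroup GG} (hH0 : ∀ h ∈ H, h • y0 = y0) (hH : Nat.card H = 29160) :
    ∃ u : A, Adj y0 u ∧ ∀ h ∈ H, h • u = u := by
  classical
  haveI : Fact (Nat.Prime 3) := ⟨Nat.prime_three⟩
  obtain ⟨P, hPH, hP⟩ := exists_729 H (by rw [hH]; norm_num)
  have hmod := (IsPGroup.of_card (p := 3) (n := 6) (G := P) (by rw [hP]; norm_num)).card_modEq_card_fixedPoints A
  rw [McLOut.card_A] at hmod
  have h2 : 1 < Nat.card (MulAction.fixedPoints P A) := by
    have : 275 % 3 = Nat.card (MulAction.fixedPoints P A) % 3 := hmod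
    omega
  haveI := Finite.one_lt_card_iff_nontrivial.1 h2
  obtain ⟨⟨u, hu'⟩, hne⟩ := exists_ne (⟨y0, fun p => hH0 _ (hPH p.2)⟩ : MulAction.fixedPoints P A)
  have hu0 : u ≠ y0 := fun e => hne (Subtype.ext e)
  have hu : ∀ p ∈ P, p • u = u := fun p hp => hu' ⟨p, hp⟩
  have hy : ∀ p ∈ P, p • y0 = y0 := fun p hp => hH0 p (hPH hp)
  have hadj : Adj y0 u := by
    rcases card_inf hu0.symm with ⟨h, -⟩ | ⟨-, hc⟩
    · exact h
    · exfalso
      have hd : Nat.card P ∣ 20160 := hc ▸ Subgroup.card_dvd_of_le (le_inf (fun p hp => hy p hp) fun p hp => hu p hp)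
      rw [hP] at hd
      norm_num at hd
  refine ⟨u, hadj, ?_⟩
  set O := MulAction.orbit H u with hO
  have hOadj : ∀ w ∈ O, Adj y0 w := by
    rintro _ ⟨g, rfl⟩
    have h := (adj_smul (g : GG) y0 u).2 hadj
    rwa [hH0 _ g.2] at h
  have hk : O.ncard ∣ 40 := by
    have h := orbit_card H u
    rw [hH] at h
    obtain ⟨m, hm⟩ : 729 ∣ Nat.card ↥(H ⊓ MulAction.stabilizer GG u) :=
      hP ▸ Subgroup.card_dvd_of_le (le_inf hPH fun p hp => hu p hp)
    rw [hm] at h
    exact ⟨m, by rw [← hO] at h; linarith⟩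
  have hkpos : 0 < O.ncard := orbit_pos H u
  have hk40 := Nat.le_of_dvd (by norm_num) hk
  have hPO : ∀ p ∈ P, ∀ w ∈ O, p • w ∈ O := by
    rintro p hp _ ⟨g, rfl⟩
    exact ⟨⟨p, hPH hp⟩ * g, mul_smul p (g : GG) u⟩
  have hall : ∀ w ∈ O, w ≠ u → Adj u w := by
    intro w hw hwu
    by_contra hn
    have := Set.ncard_le_ncard (show MulAction.orbit P w ⊆ O by
      rintro _ ⟨p, rfl⟩; exact hPO p p.2 w hw) (Set.toFinite _)
    rw [far_orbit hadj hP hy hu (hOadj w hw) hwu hn, card_far_nbrs hadj] at this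
    omega
  have h3 : 3 ∣ O.ncard - 1 := by
    rw [← Set.ncard_sdiff_singleton_of_mem (MulAction.mem_orbit_self u : u ∈ O)]
    refine McLOut.dvd_of_orbits (P := P) 3 _ _ rfl (fun p hp w hw => ⟨hPO p hp w hw.1, fun e => hw.2 ?_⟩)
      fun w hw => McLOut.orbit_common hP hy hu hadj (hOadj w hw.1) (hall w hw.1 (by simpa using hw.2))
    simp only [Set.mem_singleton_iff] at e ⊢
    exact MulAction.injective p (e.trans (hu p hp).symm)
  have hcl : ∀ a ∈ O, ∀ b ∈ O, a ≠ b → Adj a b := by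
    rintro _ ⟨g, rfl⟩ b hb hab
    have h1 := hall ((g : GG)⁻¹ • b) (by
      obtain ⟨g', rfl⟩ := hb
      exact ⟨g⁻¹ * g', mul_smul ((g : GG)⁻¹) (g' : GG) u⟩) (fun e => hab (by
      show (g : GG) • u = b
      rw [← e, smul_inv_smul]))
    have h2 := (adj_smul (g : GG) _ _).2 h1
    rwa [smul_inv_smul] at h2
  have h5 : (insert y0 O).ncard ≤ 5 := by
    refine McLOut.clique_le ?_
    rintro a (rfl | ha) b (rfl | hb) hab
    exacts [absurd rfl hab, hOadj b hb, adj_symm (hOadj a ha), hcl a ha b hb hab]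
  rw [Set.ncard_insert_of_notMem (fun h => adj_ne (hOadj _ h) rfl) (Set.toFinite _)] at h5
  rcases (show O.ncard = 1 ∨ O.ncard = 4 by omega) with h1 | h4
  · obtain ⟨w, hw⟩ := Set.ncard_eq_one.1 h1
    intro h hh
    have m1 : (⟨h, hh⟩ : H) • u ∈ ({w} : Set A) := hw ▸ MulAction.mem_orbit u _
    have m2 : u ∈ ({w} : Set A) := hw ▸ MulAction.mem_orbit_self u
    exact (Set.mem_singleton_iff.1 m1).trans (Set.mem_singleton_iff.1 m2).symm
  exfalso
  have h := orbit_card H u
  rw [← hO, h4, hH] at h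
  haveI : Fact (Nat.Prime 5) := ⟨by norm_num⟩
  obtain ⟨x, hx⟩ := exists_prime_orderOf_dvd_card' (G := ↥(H ⊓ MulAction.stabilizer GG u)) 5
    (by rw [show Nat.card ↥(H ⊓ MulAction.stabilizer GG u) = 7290 by omega]; norm_num)
  have hx5 : orderOf (x : GG) = 5 := by rw [Subgroup.orderOf_coe, hx]
  obtain ⟨w, hwO, hwu⟩ : ∃ w ∈ O, w ≠ u := by
    by_contra hno
    push Not at hno
    have h1 : O.ncard = 1 :=
      Set.ncard_eq_one.2 ⟨u, Set.eq_singleton_iff_unique_mem.2 ⟨MulAction.mem_orbit_self u, hno⟩⟩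
    omega
  refine not_five hadj (hOadj w hwO) (hall w hwO hwu) hx5 (hH0 _ x.2.1) x.2.2 ?_
  have ho : (MulAction.orbit (Subgroup.zpowers (x : GG)) w).ncard ∣ 5 := by
    rw [← MulAction.index_stabilizer, ← hx5, ← Nat.card_zpowers]
    exact Subgroup.index_dvd_card _
  have hole : (MulAction.orbit (Subgroup.zpowers (x : GG)) w).ncard ≤ 4 := by
    refine le_trans (Set.ncard_le_ncard ?_ (Set.toFinite _)) h4.le
    rintro _ ⟨q, rfl⟩
    obtain ⟨g, rfl⟩ := hwO
    exact ⟨⟨(q : GG), (Subgroup.zpowers_le.2 x.2.1 : _ ≤ H) q.2⟩ * g, mul_smul (q : GG) (g : GG) u⟩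
  rcases (by norm_num : Nat.Prime 5).eq_one_or_self_of_dvd _ ho with h1 | h1
  · obtain ⟨v, hv⟩ := Set.ncard_eq_one.1 h1
    have m1 : (⟨(x : GG), Subgroup.mem_zpowers _⟩ : Subgroup.zpowers (x : GG)) • w ∈ ({v} : Set A) :=
      hv ▸ MulAction.mem_orbit w _
    have m2 : w ∈ ({v} : Set A) := hv ▸ MulAction.mem_orbit_self w
    exact (Set.mem_singleton_iff.1 m1).trans (Set.mem_singleton_iff.1 m2).symm
  · omega

/-! ### The neighbours as lines -/

/-- The neighbour with a number. -/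
noncomputable def vtx (k : Fin 112) : A := num.symm (nb k)

theorem num_vtx (k : Fin 112) : num (vtx k) = nb k := num.apply_symm_apply _

theorem num_y0 : num y0 = 0 := num.apply_symm_apply _

theorem adj_vtx (k : Fin 112) : Adj y0 (vtx k) := by
  rw [← adjB_num, num_y0, num_vtx]
  exact (McLStab.nb_iff _).2 ⟨k, rfl⟩

theorem exists_vtx {w : A} (h : Adj y0 w) : ∃ k, vtx k = w := by
  rw [← adjB_num, num_y0] at h
  obtain ⟨k, hk⟩ := (McLStab.nb_iff _).1 h
  exact ⟨k, num.injective (by rw [num_vtx, hk])⟩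

theorem vtx_injective : Function.Injective vtx := fun k l e =>
  McLStab.nb_inj k l (by rw [← num_vtx, e, num_vtx])

theorem vtx_act (g : H0) (k : Fin 112) : vtx (act g k) = (g : GG) • vtx k := by
  refine num.injective ?_
  rw [num_vtx, McLStab.act_apply, McLStab.nb_img, ← num_vtx, McLOut.toPerm_num]

theorem adj_vtx_iff (k l : Fin 112) : McLStab.adjB k l = true ↔ Adj (vtx k) (vtx l) := by
  rw [← adjB_num, num_vtx, num_vtx, McLStab.nb_adj]

theorem act_trans (k l : Fin 112) : ∃ g : H0, act g k = l := by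
  obtain ⟨g, hg, e⟩ := trans_nbr (adj_vtx k) (adj_vtx l)
  exact ⟨⟨g, hg⟩, vtx_injective (by rw [vtx_act]; exact e)⟩

theorem act_pair_trans {k l m : Fin 112} (hl : l ≠ k) (hln : McLStab.adjB k l = false) (hm : m ≠ k)
    (hmn : McLStab.adjB k m = false) : ∃ g : H0, act g k = k ∧ act g l = m := by
  obtain ⟨g, hg, e1, e2⟩ := pair_trans (adj_vtx k) (adj_vtx l) (fun e => hl (vtx_injective e))
    (fun e => by rw [← adj_vtx_iff] at e; simp [hln] at e) (adj_vtx m) (fun e => hm (vtx_injective e))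
    (fun e => by rw [← adj_vtx_iff] at e; simp [hmn] at e)
  exact ⟨⟨g, hg⟩, vtx_injective (by rw [vtx_act]; exact e1), vtx_injective (by rw [vtx_act]; exact e2)⟩

theorem card_act_stab (k : Fin 112) : Nat.card {g : H0 // act g k = k} = 29160 := by
  rw [← card_pair (adj_vtx k)]
  refine Nat.card_congr ⟨fun g => ⟨g.1.1, g.1.2, ?_⟩, fun g => ⟨⟨g.1, g.2.1⟩, ?_⟩, fun _ => rfl, fun _ => rfl⟩
  · show (g.1 : GG) • vtx k = vtx k
    rw [← vtx_act, g.2]
  · refine vtx_injective ?_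
    rw [vtx_act]
    exact g.2.2

/-- A subgroup of the stabiliser of index 112 fixes a line. -/
theorem act_fixed {H : Subgroup H0} (hH : Nat.card H = 29160) :
    ∃ k : Fin 112, ∀ h ∈ H, act h k = k := by
  obtain ⟨u, hu, hfix⟩ := fixed_nbr (H := H.map H0.subtype)
    (by rintro _ ⟨g, -, rfl⟩; exact g.2)
    (by rw [Subgroup.card_map_of_injective H0.subtype_injective, hH])
  obtain ⟨k, rfl⟩ := exists_vtx hu
  exact ⟨k, fun h hh => vtx_injective (by rw [vtx_act]; exact hfix _ ⟨h, hh, rfl⟩)⟩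

/-- An invariant set of thirty lines is the set of lines meeting the fixed one. -/
theorem act_invariant {k : Fin 112} {O : Set (Fin 112)} (hk : k ∉ O)
    (hinv : ∀ g : H0, act g k = k → ∀ l ∈ O, act g l ∈ O) (hcard : O.ncard = 30) :
    ∀ l, l ∈ O ↔ McLStab.adjB k l = true := by
  have h := invariant_thirty (adj_vtx k) (O := vtx '' O)
    (by rintro _ ⟨l, hl, rfl⟩; exact ⟨adj_vtx l, fun e => hk (vtx_injective e ▸ hl)⟩)
    (by
      rintro g hg hgk _ ⟨l, hl, rfl⟩
      have hf : act ⟨g, hg⟩ k = k := vtx_injective (by rw [vtx_act]; exact hgk)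
      exact ⟨act ⟨g, hg⟩ l, hinv _ hf l hl, vtx_act _ l⟩)
    (by rw [Set.ncard_image_of_injective _ vtx_injective, hcard])
  intro l
  have := Set.ext_iff.1 h (vtx l)
  rw [vtx_injective.mem_set_image] at this
  rw [this, adj_vtx_iff]
  exact ⟨fun h => h.2, fun h => ⟨adj_vtx l, h⟩⟩

end Cfsg.Agent.Lib.McLUnique
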