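import Mathlib
import Cfsg.Agent.GroupStructure3.McLStab.Main
import Cfsg.Agent.Lib.McLUnique.Data

/-!
The sets of isotropic lines meeting every pencil in two lines, containing two given lines, are the
traces of the far vertices of the McLaughlin graph, moved by four automorphisms of the lines.
-/

set_option autoImplicit false
set_option maxRecDepth 100000
set_option Elab.async false

namespace Cfsg.Agent.Lib.McLUnique

open Cfsg.Agent.GroupStructure3 (McLOut.adjB)
open Cfsg.Agent.GroupStructure3.McLStab (ptLines nb Au adjB)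

/-- The four lines through a point. -/
def pen (p : ℕ) : List ℕ := ptLines.getD p []

theorem pen_ok : ∀ p < 280, (pen p).length = 4 ∧ (pen p).Nodup ∧ ∀ l ∈ pen p, l < 112 := by
  decide +kernel

theorem pen_clique : ((List.range 280).all fun p => (pen p).all fun l => (pen p).all fun m =>
    l == m || adjB (Fin.ofNat 112 l) (Fin.ofNat 112 m)) = true := by decide +kernel

/-- An automorphism, as a map. -/
def autF (k : ℕ) (l : Fin 112) : Fin 112 := Fin.ofNat 112 ((Data.autL.getD k []).getD l 0)

/-- Its inverse, as a map. -/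
def invF (k : ℕ) (l : Fin 112) : Fin 112 := Fin.ofNat 112 ((Data.invL.getD k []).getD l 0)

theorem aut_ok : ∀ k : Fin 4, (∀ l : Fin 112, invF k (autF k l) = l) ∧
    (∀ l : Fin 112, autF k (invF k l) = l) := by decide +kernel

theorem aut_adj : ((List.range 4).all fun k => (List.range 112).all fun l => (List.range 112).all fun m =>
    adjB (autF k (Fin.ofNat 112 l)) (autF k (Fin.ofNat 112 m)) ==
      adjB (Fin.ofNat 112 l) (Fin.ofNat 112 m)) = true := by decide +kernel

/-- An automorphism. -/
def aut (k : Fin 4) : Equiv.Perm (Fin 112) :=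
  ⟨autF k, invF k, (aut_ok k).1, (aut_ok k).2⟩

theorem aut_mem (k : Fin 4) : aut k ∈ Au := by
  intro l m
  have h := aut_adj
  simp only [List.all_eq_true, List.mem_range, beq_iff_eq] at h
  have := h k k.2 l l.2 m m.2
  rwa [show Fin.ofNat 112 (l : ℕ) = l from Fin.ext (Nat.mod_eq_of_lt l.2),
    show Fin.ofNat 112 (m : ℕ) = m from Fin.ext (Nat.mod_eq_of_lt m.2)] at this

/-! ### The checker -/

/-- One propagation at a pencil. -/
def step (s : ℕ × ℕ) (p : ℕ) : ℕ × ℕ :=
  if (pen p).countP (fun l => s.1.testBit l) == 2 then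
    (s.1, (pen p).foldl (fun o l => if s.1.testBit l then o else o ||| 2 ^ l) s.2)
  else if (pen p).countP (fun l => s.2.testBit l) == 2 then
    ((pen p).foldl (fun o l => if s.2.testBit l then o else o ||| 2 ^ l) s.1, s.2)
  else s

/-- The value at a leaf. -/
def leafOK (s : ℕ × ℕ) (k i : ℕ) : Bool :=
  decide (k < 4) && decide (i < 275) && i != 0 && !McLOut.adjB 0 (Fin.ofNat 275 i) &&
    (List.range 112).all fun l => (s.1.testBit l || s.2.testBit l) &&
      (s.1.testBit l == McLOut.adjB (Fin.ofNat 275 i) (nb (invF k (Fin.ofNat 112 l))))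

/-- The check of a tree. -/
def chkTree : Tree → ℕ × ℕ → Bool
  | .bad st p, s => st.all (fun q => decide (q < 280)) && decide (p < 280) &&
      (decide (2 < (pen p).countP fun l => (st.foldl step s).1.testBit l) ||
        decide (2 < (pen p).countP fun l => (st.foldl step s).2.testBit l))
  | .leaf st k i, s => st.all (fun q => decide (q < 280)) && leafOK (st.foldl step s) k i
  | .node st v l r, s => st.all (fun q => decide (q < 280)) && decide (v < 112) &&
      chkTree l ((st.foldl step s).1 ||| 2 ^ v, (st.foldl step s).2) &&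
      chkTree r ((st.foldl step s).1, (st.foldl step s).2 ||| 2 ^ v)

theorem tree_ok : chkTree Data.tree (1 ||| 2 ^ Data.far0, 0) = true := by decide +kernel

/-! ### Soundness -/

/-- A set of lines meeting every pencil in two lines. -/
def Two (h : ℕ → Bool) : Prop := ∀ p < 280, (pen p).countP h = 2

/-- A partial choice agrees with a set. -/
def Agree (h : ℕ → Bool) (s : ℕ × ℕ) : Prop :=
  (∀ l, s.1.testBit l = true → h l = true) ∧ ∀ l, s.2.testBit l = true → h l = false

theorem testBit_fold (q : ℕ → Bool) : ∀ (L : List ℕ) (o j : ℕ),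
    (L.foldl (fun o l => if q l then o else o ||| 2 ^ l) o).testBit j = true →
      o.testBit j = true ∨ (j ∈ L ∧ q j = false)
  | [], o, j, h => Or.inl h
  | x :: L, o, j, h => by
    rw [List.foldl_cons] at h
    rcases testBit_fold q L _ j h with h | ⟨h1, h2⟩
    · by_cases hx : q x = true
      · rw [if_pos hx] at h; exact Or.inl h
      · rw [if_neg hx, Nat.testBit_or, Bool.or_eq_true, Nat.testBit_two_pow, decide_eq_true_eq] at h
        rcases h with h | h
        · exact Or.inl h
        · subst h; exact Or.inr ⟨List.mem_cons_self, by simpa using hx⟩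
    · exact Or.inr ⟨List.mem_cons_of_mem _ h1, h2⟩

theorem countP_lt {a b : ℕ → Bool} : ∀ {L : List ℕ}, (∀ l ∈ L, a l = true → b l = true) →
    ∀ j ∈ L, a j = false → b j = true → L.countP a < L.countP b
  | [], _, j, hj, _, _ => absurd hj List.not_mem_nil
  | x :: L, h, j, hj, ha, hb => by
    have hle : L.countP a ≤ L.countP b :=
      List.countP_mono_left fun l hl => h l (List.mem_cons_of_mem _ hl)
    rcases List.mem_cons.1 hj with rfl | hj
    · simp only [List.countP_cons, ha, hb]
      simp only [Bool.false_eq_true, if_false, if_true]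
      omega
    · have ih := countP_lt (fun l hl => h l (List.mem_cons_of_mem _ hl)) j hj ha hb
      have hx := h x List.mem_cons_self
      simp only [List.countP_cons]
      cases hax : a x <;> cases hbx : b x <;> simp_all

theorem not_count {h : ℕ → Bool} (hh : Two h) {p : ℕ} (hp : p < 280) :
    (pen p).countP (fun l => !h l) = 2 := by
  have := List.length_eq_countP_add_countP (p := h) (l := pen p)
  rw [(pen_ok p hp).1, hh p hp] at this
  simpa [Bool.not_eq_true] using (by omega : (pen p).countP (fun a => decide ¬h a = true) = 2)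

theorem agree_step {h : ℕ → Bool} (hh : Two h) {s : ℕ × ℕ} (hs : Agree h s) {p : ℕ} (hp : p < 280) :
    Agree h (step s p) := by
  unfold step
  split_ifs with h1 h2
  · refine ⟨hs.1, fun j hj => ?_⟩
    rcases testBit_fold (fun l => s.1.testBit l) _ _ _ hj with hj | ⟨hjp, hj⟩
    · exact hs.2 j hj
    · by_contra hne
      have := countP_lt (fun l _ => hs.1 l) j hjp hj (by simpa using hne)
      rw [hh p hp, beq_iff_eq.1 h1] at this
      omega
  · refine ⟨fun j hj => ?_, hs.2⟩
    rcases testBit_fold (fun l => s.2.testBit l) _ _ _ hj with hj | ⟨hjp, hj⟩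
    · exact hs.1 j hj
    · by_contra hne
      have := countP_lt (b := fun l => !h l) (fun l _ hl => by simp [hs.2 l hl]) j hjp hj
        (by simpa using hne)
      rw [not_count hh hp, beq_iff_eq.1 h2] at this
      omega
  · exact hs

theorem agree_fold {h : ℕ → Bool} (hh : Two h) : ∀ (L : List ℕ) {s : ℕ × ℕ}, (∀ q ∈ L, q < 280) →
    Agree h s → Agree h (L.foldl step s)
  | [], _, _, hs => hs
  | q :: L, _, hq, hs =>
    agree_fold hh L (fun r hr => hq r (List.mem_cons_of_mem _ hr))
      (agree_step hh hs (hq q List.mem_cons_self))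

theorem sound {h : ℕ → Bool} (hh : Two h) : ∀ (T : Tree) {s : ℕ × ℕ}, chkTree T s = true → Agree h s →
    ∃ (k : Fin 4) (i : Fin 275), i ≠ 0 ∧ McLOut.adjB 0 i = false ∧
      ∀ l : Fin 112, h l = McLOut.adjB i (nb ((aut k).symm l))
  | .bad st p, s, hc, hs => by
    simp only [chkTree, Bool.and_eq_true, List.all_eq_true, decide_eq_true_eq, Bool.or_eq_true] at hc
    obtain ⟨⟨hst, hp⟩, hbad⟩ := hc
    have ha := agree_fold hh st hst hs
    rcases hbad with hb | hb
    · have := List.countP_mono_left (l := pen p) (q := h)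
        (p := fun l => (st.foldl step s).1.testBit l) fun l _ => ha.1 l
      rw [hh p hp] at this
      omega
    · have := List.countP_mono_left (l := pen p) (q := fun l => !h l)
        (p := fun l => (st.foldl step s).2.testBit l) fun l _ hl => by simp [ha.2 l hl]
      rw [not_count hh hp] at this
      omega
  | .leaf st k i, s, hc, hs => by
    simp only [chkTree, leafOK, Bool.and_eq_true, List.all_eq_true, decide_eq_true_eq, bne_iff_ne,
      Bool.not_eq_true', List.mem_range, beq_iff_eq] at hc
    obtain ⟨hst, ⟨⟨⟨hk, hi⟩, hi0⟩, hfar⟩, hl⟩ := hc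
    have ha := agree_fold hh st hst hs
    refine ⟨⟨k, hk⟩, Fin.ofNat 275 i, fun e => hi0 ?_, hfar, fun l => ?_⟩
    · have := congrArg Fin.val e
      simpa [Nat.mod_eq_of_lt hi] using this
    obtain ⟨hdet, hval⟩ := hl l l.2
    rw [show Fin.ofNat 112 (l : ℕ) = l from Fin.ext (Nat.mod_eq_of_lt l.2)] at hval
    show h l = McLOut.adjB _ (nb (invF k l))
    rw [← hval]
    rw [Bool.or_eq_true] at hdet
    cases hb : (st.foldl step s).1.testBit l with
    | true => exact ha.1 l hb
    | false => exact ha.2 l (hdet.resolve_left (by simp [hb]))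
  | .node st v l r, s, hc, hs => by
    simp only [chkTree, Bool.and_eq_true, List.all_eq_true, decide_eq_true_eq] at hc
    obtain ⟨⟨⟨hst, -⟩, hl⟩, hr⟩ := hc
    have ha := agree_fold hh st hst hs
    cases hv : h v with
    | true =>
      refine sound hh l hl ⟨fun j hj => ?_, ha.2⟩
      rw [Nat.testBit_or, Bool.or_eq_true, Nat.testBit_two_pow, decide_eq_true_eq] at hj
      rcases hj with hj | rfl
      exacts [ha.1 j hj, hv]
    | false =>
      refine sound hh r hr ⟨ha.1, fun j hj => ?_⟩
      rw [Nat.testBit_or, Bool.or_eq_true, Nat.testBit_two_pow, decide_eq_true_eq] at hj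
      rcases hj with hj | rfl
      exacts [ha.2 j hj, hv]

/-- A set meeting every pencil in two lines and containing two given lines is a moved trace. -/
theorem exists_trace {h : ℕ → Bool} (hh : Two h) (h0 : h 0 = true) (h1 : h Data.far0 = true) :
    ∃ (k : Fin 4) (i : Fin 275), i ≠ 0 ∧ McLOut.adjB 0 i = false ∧
      ∀ l : Fin 112, h l = McLOut.adjB i (nb ((aut k).symm l)) := by
  refine sound hh Data.tree tree_ok ⟨fun j hj => ?_, fun j hj => by simp at hj⟩
  rw [Nat.testBit_or, Bool.or_eq_true] at hj
  rcases hj with hj | hj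
  · rw [show (1 : ℕ) = 2 ^ 0 from rfl, Nat.testBit_two_pow, decide_eq_true_eq] at hj
    exact hj ▸ h0
  · rw [Nat.testBit_two_pow, decide_eq_true_eq] at hj
    exact hj ▸ h1

end Cfsg.Agent.Lib.McLUnique
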