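import Mathlib
import Cfsg.Agent.Lib.McLUnique.Search
import Cfsg.Agent.Lib.McLUnique.Groups
import Cfsg.Agent.Lib.McLUnique.Rank3

/-!
A transitive group of degree 275 with suborbits 1, 112, 162 and the stabiliser of the McLaughlin group
preserves a graph isomorphic to the McLaughlin graph, and so is the McLaughlin group.
-/

set_option autoImplicit false
set_option maxRecDepth 10000

namespace Cfsg.Agent.Lib.McLUnique

open Cfsg Cfsg.Agent.LeechAut
open Cfsg.Agent.GroupStructure3
open Cfsg.Agent.GroupStructure3.McLStab (y0 H0 nb act)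

theorem far0_ok : McLStab.adjB 0 (Fin.ofNat 112 Data.far0) = false ∧
    Fin.ofNat 112 Data.far0 ≠ (0 : Fin 112) ∧ (Fin.ofNat 112 Data.far0 : Fin 112).1 = Data.far0 := by
  decide +kernel

theorem adj_row112 : ∀ k : Fin 112,
    (Finset.univ.filter fun l => McLStab.adjB k l = true).card = 30 := by decide +kernel

theorem nb_adj0 (l : Fin 112) : McLOut.adjB 0 (nb l) = true := (McLStab.nb_iff _).2 ⟨l, rfl⟩

theorem not_loop : ∀ i : Fin 275, McLOut.adjB i i = false := by decide +kernel

theorem act_toPerm (h : H0) (i : Fin 275) (l : Fin 112) :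
    McLOut.adjB (McLOut.toPerm (h : McL.G) i) (nb (act h l)) = McLOut.adjB i (nb l) := by
  rw [McLStab.act_apply, McLStab.nb_img]
  exact McLOut.toPerm_mem _ _ _

theorem trans_far_num {i j : Fin 275} (hi0 : i ≠ 0) (hi : McLOut.adjB 0 i = false) (hj0 : j ≠ 0)
    (hj : McLOut.adjB 0 j = false) : ∃ h : H0, McLOut.toPerm (h : McL.G) i = j := by
  obtain ⟨y, rfl⟩ := McLOut.num.surjective i
  obtain ⟨z, rfl⟩ := McLOut.num.surjective j
  obtain ⟨g, hg, e⟩ := trans_far (u := y) (v := z) (fun e => hi0 (e ▸ num_y0))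
    (fun e => by rw [← McLOut.adjB_num, num_y0] at e; simp [hi] at e) (fun e => hj0 (e ▸ num_y0))
    (fun e => by rw [← McLOut.adjB_num, num_y0] at e; simp [hj] at e)
  exact ⟨⟨g, hg⟩, by rw [McLOut.toPerm_num, e]⟩

namespace Setup

variable {Ω : Type*} [Fintype Ω] [DecidableEq Ω] {G : Subgroup (Equiv.Perm Ω)} (S : Setup Ω G)

/-- The stabiliser of two adjacent points, as a subgroup of the model. -/
noncomputable def Hb : Subgroup H0 := (MulAction.stabilizer (MulAction.stabilizer G S.a) S.b).map S.ψ.toMonoidHom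

theorem card_Hb : Nat.card S.Hb = 29160 := by
  rw [Hb, Subgroup.card_map_of_injective S.ψ.injective]
  have h := Subgroup.index_mul_card (MulAction.stabilizer (MulAction.stabilizer G S.a) S.b)
  rw [MulAction.index_stabilizer, S.hb, (Nat.card_congr S.ψ.toEquiv).trans McLStab.card_H0] at h
  omega

/-- The line fixed by it. -/
noncomputable def k0 : Fin 112 := (act_fixed S.card_Hb).choose

theorem stab_iff (g : MulAction.stabilizer G S.a) : act (S.ψ g) S.k0 = S.k0 ↔ g • S.b = S.b := by
  let T : Subgroup H0 := (MulAction.stabilizer (Equiv.Perm (Fin 112)) S.k0).comap act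
  have hT : S.Hb = T := by
    refine Subgroup.eq_of_le_of_card_ge (fun h hh => (act_fixed S.card_Hb).choose_spec h hh) ?_
    rw [S.card_Hb, ← card_act_stab S.k0]
    exact le_rfl
  have h1 : S.ψ g ∈ T ↔ act (S.ψ g) S.k0 = S.k0 := Iff.rfl
  rw [← h1, ← hT, Hb, Subgroup.mem_map_equiv, MulEquiv.symm_apply_apply, MulAction.mem_stabilizer_iff]

/-- The neighbour with a number. -/
noncomputable def γ (l : Fin 112) : Ω := S.ψ.symm (act_trans S.k0 l).choose • S.b

theorem γ_eq (h : H0) : S.γ (act h S.k0) = S.ψ.symm h • S.b := by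
  set h' := (act_trans S.k0 (act h S.k0)).choose with hh'
  have e : act h' S.k0 = act h S.k0 := (act_trans S.k0 (act h S.k0)).choose_spec
  have : (S.ψ.symm h)⁻¹ * S.ψ.symm h' ∈ MulAction.stabilizer (MulAction.stabilizer G S.a) S.b := by
    rw [MulAction.mem_stabilizer_iff, ← S.stab_iff, map_mul, map_inv, MulEquiv.apply_symm_apply,
      MulEquiv.apply_symm_apply, map_mul, map_inv, Equiv.Perm.mul_apply, e,
      Equiv.Perm.coe_inv, Equiv.symm_apply_apply]
  rw [MulAction.mem_stabilizer_iff, mul_smul, inv_smul_eq_iff] at this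
  exact this

theorem γ_act (h : H0) (l : Fin 112) : S.γ (act h l) = S.ψ.symm h • S.γ l := by
  obtain ⟨h1, rfl⟩ := act_trans S.k0 l
  rw [← Equiv.Perm.mul_apply, ← map_mul, S.γ_eq, S.γ_eq, map_mul, mul_smul]

theorem R_a_γ (l : Fin 112) : S.R S.a (S.γ l) := (S.R_a_iff _).2 ⟨_, rfl⟩

theorem γ_k0 : S.γ S.k0 = S.b := by
  have := S.γ_eq 1
  rw [map_one, map_one, one_smul] at this
  exact this

theorem exists_γ {x : Ω} (h : S.R S.a x) : ∃ l, S.γ l = x := by
  obtain ⟨g, rfl⟩ := (S.R_a_iff x).1 h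
  exact ⟨act (S.ψ g) S.k0, by rw [S.γ_eq, MulEquiv.symm_apply_apply]⟩

theorem γ_injective : Function.Injective S.γ := by
  intro k l e
  obtain ⟨h1, rfl⟩ := act_trans S.k0 k
  obtain ⟨h2, rfl⟩ := act_trans S.k0 l
  rw [S.γ_eq, S.γ_eq, smul_eq_iff_eq_inv_smul, ← mul_smul, eq_comm, ← S.stab_iff, map_mul, map_inv,
    MulEquiv.apply_symm_apply, MulEquiv.apply_symm_apply, map_mul, map_inv, Equiv.Perm.mul_apply,
    Equiv.Perm.coe_inv, Equiv.symm_apply_eq] at e
  exact e.symm

theorem coe_smul_a (g : MulAction.stabilizer G S.a) (x : Ω) : g • x = (g : G) • x := rfl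

theorem R_stab (g : MulAction.stabilizer G S.a) (x y : Ω) : S.R (g • x) (g • y) ↔ S.R x y :=
  S.R_smul (g : G) x y

theorem stab_a (g : MulAction.stabilizer G S.a) : g • S.a = S.a := g.2

theorem R_a_stab (g : MulAction.stabilizer G S.a) (x : Ω) : S.R S.a (g • x) ↔ S.R S.a x := by
  have h := S.R_stab g S.a x
  rwa [S.stab_a g] at h

theorem R_γ (k l : Fin 112) : S.R (S.γ k) (S.γ l) ↔ McLStab.adjB k l = true := by
  have key : ∀ l, S.R S.b (S.γ l) ↔ McLStab.adjB S.k0 l = true := by
    refine fun l => act_invariant (k := S.k0) (O := {l | S.R S.b (S.γ l)}) ?_ ?_ ?_ l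
    · show ¬ S.R S.b (S.γ S.k0)
      rw [S.γ_k0]
      exact S.not_R_self _
    · intro h hh l hl
      show S.R S.b (S.γ (act h l))
      have hb : S.ψ.symm h • S.b = S.b := by rw [← S.stab_iff, MulEquiv.apply_symm_apply, hh]
      rw [← hb, S.γ_act, S.R_stab]
      exact hl
    · rw [← S.lam_eq, lam, ← Set.ncard_coe_finset, ← Set.ncard_image_of_injective _ S.γ_injective]
      refine congrArg Set.ncard (Set.ext fun x => ?_)
      simp only [Set.mem_image, Finset.coe_inter, Set.mem_inter_iff, Finset.mem_coe, mem_N]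
      constructor
      · rintro ⟨l, hl, rfl⟩
        exact ⟨S.R_a_γ l, hl⟩
      · rintro ⟨h1, h2⟩
        obtain ⟨l, rfl⟩ := S.exists_γ h1
        exact ⟨l, h2, rfl⟩
  obtain ⟨h, rfl⟩ := act_trans S.k0 k
  obtain ⟨m, rfl⟩ := (act h).surjective l
  rw [S.γ_act, S.γ_act, S.R_stab, S.γ_k0, key, McLStab.act_mem h S.k0 m]

theorem two_of_far {z : Ω} (hz : z ≠ S.a) (hn : ¬ S.R S.a z) :
    Two fun l => decide (S.R z (S.γ (Fin.ofNat 112 l))) := by
  intro p hp
  obtain ⟨hlen, hnd, hlt⟩ := pen_ok p hp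
  set f : ℕ → Ω := fun l => S.γ (Fin.ofNat 112 l) with hf
  have hfinj : ∀ l ∈ pen p, ∀ m ∈ pen p, f l = f m → l = m := fun l hl m hm e => by
    have := congrArg Fin.val (S.γ_injective e)
    simpa [Nat.mod_eq_of_lt (hlt l hl), Nat.mod_eq_of_lt (hlt m hm)] using this
  have hna : S.a ∉ (pen p).toFinset.image f := fun h => by
    obtain ⟨l, -, e⟩ := Finset.mem_image.1 h
    exact S.not_R_self S.a (by have := S.R_a_γ (Fin.ofNat 112 l); rwa [show S.γ _ = S.a from e] at this)
  have hc := pen_clique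
  simp only [List.all_eq_true, List.mem_range, Bool.or_eq_true, beq_iff_eq] at hc
  have h := S.clique_meet (insert S.a ((pen p).toFinset.image f)) ?_ ?_ (z := z) ?_
  · rw [Finset.filter_insert, if_neg hn, Finset.filter_image, Finset.card_image_of_injOn ?_] at h
    · rw [List.countP_eq_length_filter, ← List.toFinset_card_of_nodup (hnd.filter _), List.toFinset_filter]
      rw [← h]
      congr 1
      refine Finset.filter_congr fun l _ => ?_
      simp only [decide_eq_true_eq]
      exact ⟨S.R_symm, S.R_symm⟩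
    · intro l hl m hm
      simp only [Finset.coe_filter, List.mem_toFinset, Set.mem_setOf_eq] at hl hm
      exact hfinj l hl.1 m hm.1
  · rw [Finset.card_insert_of_notMem hna, Finset.card_image_of_injOn ?_, List.toFinset_card_of_nodup hnd,
      hlen]
    intro l hl m hm
    exact hfinj l (List.mem_toFinset.1 hl) m (List.mem_toFinset.1 hm)
  · intro v hv w hw hvw
    simp only [Finset.mem_insert, Finset.mem_image, List.mem_toFinset] at hv hw
    rcases hv with rfl | ⟨l, hl, rfl⟩ <;> rcases hw with rfl | ⟨m, hm, rfl⟩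
    · exact absurd rfl hvw
    · exact S.R_a_γ _
    · exact S.R_symm (S.R_a_γ _)
    · exact (S.R_γ _ _).2 ((hc p hp l hl m hm).resolve_left fun e => hvw (e ▸ rfl))
  · simp only [Finset.mem_insert, Finset.mem_image, not_or]
    exact ⟨hz, fun ⟨l, _, e⟩ => hn (e ▸ S.R_a_γ _)⟩

theorem exists_start : ∃ z : Ω, z ≠ S.a ∧ ¬ S.R S.a z ∧ S.R z (S.γ 0) ∧
    S.R z (S.γ (Fin.ofNat 112 Data.far0)) := by
  have hc : S.c ≠ S.a ∧ ¬ S.R S.a S.c := by
    have h := S.hc
    refine ⟨fun e => ?_, fun e => ?_⟩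
    · rw [e, S.orbit_fixed, Set.ncard_singleton] at h
      omega
    · rw [S.orbit_eq_of_mem ((S.R_a_iff _).1 e), S.hb] at h
      omega
  have hcard : ∀ z : Ω, z ≠ S.a → ¬ S.R S.a z →
      (Finset.univ.filter fun l => S.R z (S.γ l)).card = 56 := by
    intro z hz hn
    rw [← S.mu_eq, ← S.common_not_R hz.symm hn, ← Finset.card_image_of_injective _ S.γ_injective]
    congr 1
    ext x
    simp only [Finset.mem_image, Finset.mem_filter, Finset.mem_univ, true_and, Finset.mem_inter, mem_N]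
    constructor
    · rintro ⟨l, hl, rfl⟩
      exact ⟨S.R_a_γ l, hl⟩
    · rintro ⟨h1, h2⟩
      obtain ⟨l, rfl⟩ := S.exists_γ h1
      exact ⟨l, h2, rfl⟩
  have hmove : ∀ (z : Ω) (h : H0), z ≠ S.a → ¬ S.R S.a z →
      S.ψ.symm h • z ≠ S.a ∧ ¬ S.R S.a (S.ψ.symm h • z) := by
    intro z h hz hn
    constructor
    · intro e
      exact hz (MulAction.injective (S.ψ.symm h) (e.trans (S.stab_a _).symm))
    · intro e
      exact hn ((S.R_a_stab _ _).1 e)
  obtain ⟨l, hl⟩ := Finset.card_pos.1 (show 0 < (Finset.univ.filter fun l => S.R S.c (S.γ l)).card by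
    rw [hcard _ hc.1 hc.2]; norm_num)
  obtain ⟨h, hh⟩ := act_trans l 0
  set z := S.ψ.symm h • S.c with hzdef
  obtain ⟨hz, hn⟩ := hmove S.c h hc.1 hc.2
  have hz0 : S.R z (S.γ 0) := by
    rw [hzdef, ← hh, S.γ_act, S.R_stab]
    exact (Finset.mem_filter.1 hl).2
  obtain ⟨m, hm, hm0, hmn⟩ : ∃ m, S.R z (S.γ m) ∧ m ≠ 0 ∧ McLStab.adjB 0 m = false := by
    by_contra hno
    push Not at hno
    have hsub : (Finset.univ.filter fun l => S.R z (S.γ l)) ⊆
        insert 0 (Finset.univ.filter fun l => McLStab.adjB 0 l = true) := fun m hm => by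
      simp only [Finset.mem_filter, Finset.mem_univ, true_and, Finset.mem_insert] at hm ⊢
      by_cases e : m = 0
      · exact Or.inl e
      · exact Or.inr (by simpa using hno m hm e)
    have h1 := (Finset.card_le_card hsub).trans (Finset.card_insert_le _ _)
    rw [hcard z hz hn, adj_row112 0] at h1
    omega
  obtain ⟨g, hg0, hgm⟩ := act_pair_trans (k := 0) hm0 hmn far0_ok.2.1 far0_ok.1
  obtain ⟨hz', hn'⟩ := hmove z g hz hn
  refine ⟨_, hz', hn', ?_, ?_⟩
  · have := (S.R_stab (S.ψ.symm g) z (S.γ 0)).2 hz0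
    rwa [← S.γ_act, hg0] at this
  · have := (S.R_stab (S.ψ.symm g) z (S.γ m)).2 hm
    rwa [← S.γ_act, hgm] at this

/-- Coordinates in the model. -/
theorem exists_model [IsSimpleGroup H0] : ∃ F : Fin 275 → Ω, Function.Bijective F ∧
    ∀ i j, S.R (F i) (F j) ↔ McLOut.adjB i j = true := by
  classical
  obtain ⟨z1, hz1, hn1, h0, h1⟩ := S.exists_start
  obtain ⟨k, i1, hi0, hi, htr⟩ := exists_trace (S.two_of_far hz1 hn1) (decide_eq_true h0) (decide_eq_true h1)
  set δ : Fin 112 → Ω := fun l => S.γ (aut k l) with hδ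
  have htr' : ∀ l : Fin 112, S.R z1 (δ l) ↔ McLOut.adjB i1 (nb l) = true := by
    intro l
    have := htr (aut k l)
    rw [Equiv.symm_apply_apply, show Fin.ofNat 112 ((aut k l : Fin 112) : ℕ) = aut k l from
      Fin.ext (Nat.mod_eq_of_lt (Fin.is_lt _))] at this
    rw [← this]
    simp [hδ]
  have hδR : ∀ l, S.R S.a (δ l) := fun l => S.R_a_γ _
  have hδinj : Function.Injective δ := S.γ_injective.comp (aut k).injective
  have hδadj : ∀ l m, S.R (δ l) (δ m) ↔ McLStab.adjB l m = true := fun l m => by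
    rw [hδ, S.R_γ, aut_mem k]
  -- every far vertex of the model has a point with the same trace
  have hfar : ∀ j : Fin 275, j ≠ 0 → McLOut.adjB 0 j = false →
      ∃ z, z ≠ S.a ∧ ¬ S.R S.a z ∧ ∀ l, S.R z (δ l) ↔ McLOut.adjB j (nb l) = true := by
    intro j hj0 hj
    obtain ⟨h, rfl⟩ := trans_far_num hi0 hi hj0 hj
    obtain ⟨h', hh'⟩ := conj_act (aut_mem k) h
    refine ⟨S.ψ.symm h' • z1, fun e => hz1 (MulAction.injective (S.ψ.symm h') (e.trans (S.stab_a _).symm)),
      fun e => hn1 ?_, fun l => ?_⟩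
    · exact (S.R_a_stab _ _).1 e
    · obtain ⟨m, rfl⟩ := (act h).surjective l
      have e : δ (act h m) = S.ψ.symm h' • δ m := by
        rw [hδ, ← S.γ_act, hh']
        simp
      rw [e, S.R_stab, htr', act_toPerm]
  have hex : ∀ j : Fin 275, ∃ z, (j = 0 → z = S.a) ∧ (∀ l, nb l = j → z = δ l) ∧
      (j ≠ 0 → McLOut.adjB 0 j = false →
        z ≠ S.a ∧ ¬ S.R S.a z ∧ ∀ l, S.R z (δ l) ↔ McLOut.adjB j (nb l) = true) := by
    intro j
    by_cases hj0 : j = 0
    · refine ⟨S.a, fun _ => rfl, fun l e => ?_, fun h => absurd hj0 h⟩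
      have := nb_adj0 l
      rw [e, hj0, not_loop] at this
      exact absurd this (by simp)
    by_cases hj : McLOut.adjB 0 j = true
    · obtain ⟨l, rfl⟩ := (McLStab.nb_iff j).1 hj
      exact ⟨δ l, fun e => absurd e hj0, fun l' e => by rw [McLStab.nb_inj _ _ e],
        fun _ e => by simp [hj] at e⟩
    · obtain ⟨z, hz⟩ := hfar j hj0 (by simpa using hj)
      exact ⟨z, fun e => absurd e hj0, fun l e => absurd (e ▸ nb_adj0 l) hj, fun _ _ => hz⟩
  choose F hF0 hFnb hFfar using hex
  have htri : ∀ j : Fin 275, j = 0 ∨ (∃ l, nb l = j) ∨ (j ≠ 0 ∧ McLOut.adjB 0 j = false) := by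
    intro j
    by_cases hj0 : j = 0
    · exact Or.inl hj0
    by_cases hj : McLOut.adjB 0 j = true
    · exact Or.inr (Or.inl ((McLStab.nb_iff j).1 hj))
    · exact Or.inr (Or.inr ⟨hj0, by simpa using hj⟩)
  have Fnb : ∀ l, F (nb l) = δ l := fun l => hFnb _ l rfl
  have F0 : F 0 = S.a := hF0 0 rfl
  have hinj : Function.Injective F := by
    intro i j e
    rcases htri i with rfl | ⟨l, rfl⟩ | ⟨hi0', hi'⟩ <;> rcases htri j with rfl | ⟨m, rfl⟩ | ⟨hj0', hj'⟩
    · rfl
    · rw [F0, Fnb] at e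
      exact absurd (hδR m) (e ▸ S.not_R_self S.a)
    · rw [F0] at e
      exact absurd e.symm (hFfar j hj0' hj').1
    · rw [F0, Fnb] at e
      exact absurd (hδR l) (e.symm ▸ S.not_R_self S.a)
    · rw [Fnb, Fnb] at e
      rw [hδinj e]
    · rw [Fnb] at e
      exact absurd (hδR l) (e.symm ▸ (hFfar j hj0' hj').2.1)
    · rw [F0] at e
      exact absurd e (hFfar i hi0' hi').1
    · rw [Fnb] at e
      exact absurd (hδR m) (e ▸ (hFfar i hi0' hi').2.1)
    · refine eq_of_trace hi0' hi' hj0' hj' fun l => Bool.eq_iff_iff.2 ?_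
      rw [← (hFfar i hi0' hi').2.2 l, ← (hFfar j hj0' hj').2.2 l, e]
  have hbij : Function.Bijective F :=
    (Fintype.bijective_iff_injective_and_card F).2 ⟨hinj, by rw [Fintype.card_fin, S.card]⟩
  -- one direction
  have himp : ∀ i j, S.R (F i) (F j) → McLOut.adjB i j = true := by
    intro i j hR
    rcases htri i with rfl | ⟨l, rfl⟩ | ⟨hi0', hi'⟩ <;> rcases htri j with rfl | ⟨m, rfl⟩ | ⟨hj0', hj'⟩
    · exact absurd hR (S.not_R_self _)
    · exact nb_adj0 m
    · rw [F0] at hR
      exact absurd hR (hFfar j hj0' hj').2.1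
    · rw [adjB_comm]; exact nb_adj0 l
    · rw [Fnb, Fnb, hδadj] at hR
      rw [McLStab.nb_adj]
      exact hR
    · rw [Fnb] at hR
      rw [adjB_comm]
      exact ((hFfar j hj0' hj').2.2 l).1 (S.R_symm hR)
    · rw [F0] at hR
      exact absurd (S.R_symm hR) (hFfar i hi0' hi').2.1
    · rw [Fnb] at hR
      exact ((hFfar i hi0' hi').2.2 m).1 hR
    · by_contra hne
      have hij : i ≠ j := fun e => S.not_R_self (F i) (by rw [← e] at hR; exact hR)
      have h30 := far_common hij hi0' hi' hj0' hj' (by simpa using hne)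
      refine absurd h30 (not_lt.2 ?_)
      rw [← S.lam_eq, ← S.common_R hR, ← Finset.card_image_of_injective _ hδinj]
      refine Finset.card_le_card fun x hx => ?_
      simp only [Finset.mem_image, Finset.mem_filter, Finset.mem_univ, true_and] at hx
      obtain ⟨l, ⟨h1, h2⟩, rfl⟩ := hx
      exact Finset.mem_inter.2 ⟨S.mem_N.2 (((hFfar i hi0' hi').2.2 l).2 h1),
        S.mem_N.2 (((hFfar j hj0' hj').2.2 l).2 h2)⟩
  refine ⟨F, hbij, fun i j => ⟨himp i j, fun h => ?_⟩⟩
  have hsub : {j | S.R (F i) (F j)} = {j | McLOut.adjB i j = true} := by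
    refine Set.eq_of_subset_of_ncard_le (fun j => himp i j) ?_ (Set.toFinite _)
    rw [card_row, ← S.card_N (F i), ← Set.ncard_coe_finset, ← Set.ncard_image_of_injective _ hinj]
    refine le_of_eq (congrArg Set.ncard (Set.ext fun x => ?_))
    obtain ⟨j, rfl⟩ := hbij.2 x
    simp [mem_N, hinj.eq_iff]
  have : j ∈ {j | S.R (F i) (F j)} := hsub ▸ h
  exact this

/-- The group is the McLaughlin group. -/
theorem iso {Ω : Type*} [Fintype Ω] [DecidableEq Ω] {G : Subgroup (Equiv.Perm Ω)} (S : Setup Ω G)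
    [IsSimpleGroup H0] : Spor.IsoMcL G := by
  classical
  obtain ⟨F, hF, hR⟩ := S.exists_model
  set E : Fin 275 ≃ Ω := Equiv.ofBijective F hF with hE
  have hcard : Nat.card G = 898128000 := by
    have h := Subgroup.index_mul_card (MulAction.stabilizer G S.a)
    rw [MulAction.index_stabilizer, show MulAction.orbit G S.a = Set.univ from
      Set.eq_univ_of_forall fun x => S.trans S.a x, Set.ncard_univ, Nat.card_eq_fintype_card, S.card,
      (Nat.card_congr S.ψ.toEquiv).trans McLStab.card_H0] at h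
    omega
  refine iso_of_embedding ((Equiv.permCongrHom E.symm).toMonoidHom.comp G.subtype) ?_ ?_ hcard ?_
  · exact (Equiv.permCongrHom E.symm).injective.comp G.subtype_injective
  · intro g i j
    have e : ∀ i, F (((Equiv.permCongrHom E.symm).toMonoidHom.comp G.subtype) g i) = g • F i := fun i => by
      show E (E.symm ((g : Equiv.Perm Ω) (E i))) = g • F i
      rw [Equiv.apply_symm_apply]
      rfl
    rw [Bool.eq_iff_iff, ← hR, ← hR, e, e, S.R_smul]
  · intro N hN
    haveI := Subgroup.normal_of_index_eq_two hN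
    haveI : IsSimpleGroup (MulAction.stabilizer G S.a) := S.ψ.isSimpleGroup_congr.2 inferInstance
    have hle : MulAction.stabilizer G S.a ≤ N := by
      rcases IsSimpleGroup.eq_bot_or_eq_top_of_normal (N.subgroupOf (MulAction.stabilizer G S.a))
        Subgroup.normal_subgroupOf with h | h
      · exfalso
        have h1 : (N.subgroupOf (MulAction.stabilizer G S.a)).index = 3265920 := by
          rw [h, Subgroup.index_bot, (Nat.card_congr S.ψ.toEquiv).trans McLStab.card_H0]
        have h2 : N.relIndex (MulAction.stabilizer G S.a) ∣ N.index := Subgroup.relIndex_dvd_index_of_normal _ _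
        rw [Subgroup.relIndex, h1, hN] at h2
        norm_num at h2
      · exact Subgroup.subgroupOf_eq_top.1 h
    have hd := Subgroup.card_dvd_of_le hle
    have h2 := N.card_mul_index
    rw [hN, hcard] at h2
    rw [(Nat.card_congr S.ψ.toEquiv).trans McLStab.card_H0, show Nat.card N = 449064000 by omega] at hd
    norm_num at hd

end Setup

end Cfsg.Agent.Lib.McLUnique
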